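/-
Doubly transitive actions of exceptional groups: reduction to the transitive Borel subgroup.
-/
import Cfsg.Agent.Lib.T2I.C
import Cfsg.Agent.Lib.T2R.Gen
import Cfsg.Agent.Lib.RD.H
import Cfsg.Agent.Lib.Chev.Poincare
import Cfsg.Agent.S2341
import Cfsg.Agent.S2342

set_option autoImplicit false

namespace Cfsg.Agent.T2I

open Cfsg.Lie Cfsg.Agent.Chev Cfsg.Agent.ChevM Cfsg.Agent.T2 Cfsg.Agent.RD

theorem fs_of {D : ChevalleyDatum} [Good D] (r s : Fin D.nroots) (h : r ≠ s ∧ ∀ i, 0 < rc D r i ∧ 0 < rc D s i) :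
    FS (rs D) := ⟨r, s, h⟩

theorem fs_G2 : FS (rs chevG2) := fs_of ⟨11, by decide⟩ ⟨10, by decide⟩ (by decide +kernel)
theorem fs_F4 : FS (rs chevF4) := fs_of ⟨47, by decide⟩ ⟨46, by decide⟩ (by decide +kernel)
theorem fs_E6 : FS (rs chevE6) := fs_of ⟨71, by decide⟩ ⟨70, by decide⟩ (by decide +kernel)
theorem fs_E7 : FS (rs chevE7) := fs_of ⟨125, by decide⟩ ⟨124, by decide⟩ (by decide +kernel)
theorem fs_E8 : FS (rs chevE8) := fs_of ⟨239, by decide⟩ ⟨238, by decide⟩ (by decide +kernel)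

variable {Ω : Type*} [Finite Ω] [Nontrivial Ω]

section chev
variable {D : ChevalleyDatum} [Tab D] {F : Type*} [Field F] [Finite F] [MulAction (D.group F) Ω]

theorem chev_trans (hF : FS (rs D)) (hH : Hom (PG D F)) (h : Two (D.group F) Ω) :
    ∀ a b : Ω, ∃ g ∈ (PG D F).B, g • a = b := by
  obtain ⟨p, _⟩ := CharP.exists F
  have : Fact p.Prime := ⟨CharP.char_is_prime F p⟩
  exact trans_B (nondeg D F) PG_full (isPGroup_U p) hH hF h

theorem chev_trans' (hF : FS (rs D)) (p : ℕ) [Fact p.Prime] [CharP F p] (h : Two (D.group F) Ω)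
    (hn : ¬ p ∣ Nat.card Ω ∨ ∃ k, Nat.card Ω = p ^ k) : ∀ a b : Ω, ∃ g ∈ (PG D F).B, g • a = b :=
  trans_B' (nondeg D F) PG_full (isPGroup_U p) (not_dvd_index_U p) hF h hn

end chev

theorem g23_arith : ∀ n < 2062, n * (n - 1) ∣ 4245696 → 3 ∣ n → n = 3 ^ 1 ∨ n = 3 ^ 2 ∨ n = 3 ^ 3 ∨ n = 3 ^ 6 := by
  decide +kernel

theorem g23 {F : Type*} [Field F] [Fintype F] (hF : Fintype.card F = 3) [MulAction (chevG2.group F) Ω]
    (h : Two (chevG2.group F) Ω) : ∀ a b : Ω, ∃ g ∈ (PG chevG2 F).B, g • a = b := by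
  have : Fact (Nat.Prime 3) := ⟨Nat.prime_three⟩
  have : CharP F 3 := charP_of_card_eq_prime hF
  refine chev_trans' fs_G2 3 h ?_
  have h1 := degrees_G2.card_group F
  rw [Nat.card_eq_fintype_card (α := F), hF] at h1
  have h2 : Nat.card (chevG2.group F) ∣ 4245696 := ⟨_, by
    have : chevG2.nroots / 2 = 6 := by decide
    rw [this] at h1
    norm_num at h1
    exact_mod_cast h1.symm⟩
  have h3 := (T2R.mul_pred_dvd h).trans h2
  have h4 : Nat.card Ω < 2062 := by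
    by_contra h4
    have := Nat.le_of_dvd (by norm_num) h3
    have := Nat.mul_le_mul (not_lt.mp h4) (show 2061 ≤ Nat.card Ω - 1 by omega)
    omega
  by_cases h5 : 3 ∣ Nat.card Ω
  · rcases g23_arith _ h4 h3 h5 with e | e | e | e <;> exact Or.inr ⟨_, e⟩
  · exact Or.inl h5

section tw
variable {D D' : ChevalleyDatum} [Tab D] [Tab D'] {T : TwData} {k : ℕ} {f ψ rep : ℕ → ℕ} {K : Type*} [Field K]
  [Finite K] {φ : K →+* K} {σ : D.group K →* D.group K} (C : FoldOK D D' T k f ψ rep)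
  (h : IsTw D T (xG D K) φ σ) {Γ : Type*} [Group Γ] {e : Γ →* D.group K} (E : h.fold.Emb e) [MulAction Γ Ω]

theorem tw_trans (hF : FS (rs D')) (hH : Hom ((C.fm h).pre E)) (h2 : Two Γ Ω) :
    ∀ a b : Ω, ∃ g : Γ, e g ∈ (PG D K).B ∧ g • a = b := fun a b => by
  obtain ⟨p, _⟩ := CharP.exists K
  have : Fact p.Prime := ⟨CharP.char_is_prime K p⟩
  have : Finite Γ := Finite.of_injective e E.inj
  have hU : IsPGroup p ((C.fm h).pre E).U :=
    ((isPGroup_U (D := D) (F := K) p).comap_of_injective e E.inj).to_le fun g hg => ((C.fm h).mem_U E).mp hg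
  obtain ⟨g, hg, e1⟩ := trans_B ((C.fm h).pre_nondeg E) ((C.fm h).pre_full E) hU hH hF h2 a b
  exact ⟨g, (C.fm h).map_mem_B E hg, e1⟩

end tw

end Cfsg.Agent.T2I
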