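/-
Linear characters of the maximal unipotent subgroup of the twisted groups.
-/
import Cfsg.Agent.Lib.T2I.Hom
import Cfsg.Agent.Lib.Tw.Word
import Cfsg.Agent.S2341
import Cfsg.Agent.S2342

set_option autoImplicit false

namespace Cfsg.Agent.T2I

open Cfsg.Lie Cfsg.Agent.Chev Cfsg.Agent.RD

/-- The orbit product as a word. -/
def orbP (T : TwData) (k r : ℕ) (p : ℕ → Pol) : List (ℕ × Pol) :=
  (List.range (kr T k r)).map fun j => (T.π^[j] r, (p j).map fun t => (sgnP T r j * t.1, t.2))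

/-- The quotient of a commutator by its expected leading term. -/
def stepW (T : TwData) (k a b g : ℕ) (pa pb pg : ℕ → Pol) : List (ℕ × Pol) :=
  invW (orbP T k a pa) ++ commW (orbP T k b pb) (orbP T k g pg)

/-- The collected word has its letters over the given roots. -/
def stepB (Co : Coll) (f : ℕ → ℕ) (S : List ℕ) (W : List (ℕ × Pol)) : Bool :=
  Co.valid W && allL (Co.nf W) fun l => decide (f l.r ∈ S)

variable {D D' : ChevalleyDatum} [Tab D] [Tab D'] {T : TwData} {k : ℕ} {f ψ rep : ℕ → ℕ}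
  {K G : Type*} [Field K] [Group G] {x : ℕ → K → G} {φ : K →+* K} {σ : G →* G}
  {Γ : Type*} [Group Γ] {e : Γ →* G}

theorem evP_scale (v : ℕ → K) (c : ℤ) (p : Pol) :
    evP v (p.map fun t => (c * t.1, t.2)) = c * evP v p := by
  induction p with
  | nil => simp
  | cons t p ih => rw [List.map_cons, evP_cons, evP_cons, ih]; push_cast; ring

theorem dl_orbP (h : IsTw D T x φ σ) (P : Per D T k) (r : Fin D.nroots) {t : K} {v : ℕ → K}
    {p : ℕ → Pol} (ep : ∀ j < k, evP v (p j) = φ^[j] t) :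
    dl σ (kr T k r) (x r t) = evS x v (orbP T k r p) := by
  have : kr T k r ≤ k := by
    unfold kr; split_ifs
    exacts [P.pos, le_rfl]
  rw [orbP]
  generalize kr T k r = n at this
  induction n with
  | zero => rfl
  | succ n ih =>
    simp [dl_succ', ih (by omega), List.range_succ, h.iter_eq P, evP_scale, ep n (by omega),
      h.tw.ρ_pow_val]

theorem orbP_lt (h : IsTw D T x φ σ) (r : Fin D.nroots) (p : ℕ → Pol) :
    ∀ a ∈ orbP T k r p, a.1 < D.nroots := fun a ha => by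
  obtain ⟨j, -, rfl⟩ := List.mem_map.1 ha
  exact h.tw.ρ_pow_val j r ▸ ((h.tw.ρ ^ j) r).2

theorem tw_step (C : FoldOK D D' T k f ψ rep) (h : IsTw D T x φ σ) (P : Per D T k) (E : h.fold.Emb e)
    {Co : Coll} (hC : CollFor D Co) (hK : CharOK K Co.p) {N : Subgroup Γ} (c : Cm ((C.fm h).pre E) N)
    {S : List ℕ} (hS : ∀ s : Fin D'.nroots, s.1 ∈ S → (rs D').IsPos s ∧ ((C.fm h).pre E).X s ≤ N)
    (hc : (rs D').Closed {s | s.1 ∈ S}) (a b g : Fin D.nroots) (hb : D.nroots ≤ 2 * b.1)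
    (hg : D.nroots ≤ 2 * g.1) {ta tb tg : K} (mb : tb ∈ Chev.Fx T k φ b) (mg : tg ∈ Chev.Fx T k φ g)
    (v : ℕ → K) (pa pb pg : ℕ → Pol) (ea : ∀ j < k, evP v (pa j) = φ^[j] ta)
    (eb : ∀ j < k, evP v (pb j) = φ^[j] tb) (eg : ∀ j < k, evP v (pg j) = φ^[j] tg)
    (chk : stepB Co f S (stepW T k a b g pa pb pg) = true) {z : Γ}
    (hz : e z = dl σ (kr T k a) (x a ta)) : z ∈ N := by
  have u : ∀ (r : Fin D.nroots) {t : K}, D.nroots ≤ 2 * r.1 → t ∈ Chev.Fx T k φ r →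
      h.Y E r (kr T k r) t ∈ ((C.fm h).pre E).U := fun r t a b =>
    PreRGD.X_le_U _ (((C.fm h).φ_pos r).2 ((rs_isPos_iff_le r).2 a)) (C.Y_mem h P E b)
  have c1 := c _ (u b hb mb) _ (u g hg mg)
  simp only [stepB, Bool.and_eq_true, allL_iff, decide_eq_true_eq] at chk
  obtain ⟨n1, n2⟩ := nf_ok h.chv.rel hC hK v chk.1
  refine (mul_mem_cancel_right c1).1 ?_ |> inv_mem_iff.1
  refine (USub_le_iff.2 fun s hs => (hS s hs).2 : ((C.fm h).pre E).US {s | s.1 ∈ S} ≤ N)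
    (((C.fm h).mem_US E (RSys.halfSpace_of_pos fun s hs => (hS s hs).1) hc).2 ?_)
  rw [map_mul, map_mul, map_mul,
    map_mul, map_inv, map_inv, map_inv, hz, h.map_Y' P E b mb, h.map_Y' P E g mg, dl_orbP h P a ea,
    dl_orbP h P b eb, dl_orbP h P g eg, ← h.chv.rel.evS_invW v (orbP_lt h a pa),
    ← h.chv.rel.evS_invW v (orbP_lt h b pb), ← h.chv.rel.evS_invW v (orbP_lt h g pg), ← evS_append,
    ← evS_append, ← evS_append, ← evS_append, ← commW, ← stepW, ← n2]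
  refine list_prod_mem fun y hy => ?_
  obtain ⟨l, hl, rfl⟩ := List.mem_map.1 hy
  exact x_mem_USub (x := x) (r := ⟨l.r, n1 l hl⟩) (chk.2 l hl) _

/-- the data for the short roots of `²E₆` -/
def e6d : List (ℕ × ℕ × ℕ × ℤ × ℕ) := [(38, 36, 37, 1, 71), (40, 39, 37, -1, 44), (41, 36, 40, 1, 71),
  (45, 38, 43, 1, 71), (48, 46, 40, -1, 53), (49, 36, 48, 1, 71), (52, 38, 50, 1, 71), (54, 43, 49, 1, 71),
  (55, 37, 54, 1, 71), (66, 55, 56, 1, 71)]

/-- the folding map of `E₆` -/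
def fE : ℕ → ℕ := byteAt 0x2f2e2d2c282c2b272a26242925232221282720261f1d241d1a18251e1c1b231c19221b210e140d16130c1413110a1715120b1210090f08070e0d0c0a060b09050804030703020100

theorem e6chk : ∀ p ∈ e6d, stepB (collE6 0 id) fE [fE p.2.2.2.2] (stepW twE6 2 p.1 p.2.1 p.2.2.1
    (fun j => [(p.2.2.2.1, [j])]) (fun _ => [(1, [])]) fun j => [(1, [j])]) = true := by
  decide +kernel

theorem e6ok : ∀ p ∈ e6d, (p.1 < 72 ∧ p.2.1 < 72 ∧ p.2.2.1 < 72 ∧ p.2.2.2.2 < 72) ∧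
    (72 ≤ 2 * p.2.1 ∧ 72 ≤ 2 * p.2.2.1 ∧ 48 ≤ 2 * fE p.2.2.2.2) ∧ twE6.π p.1 ≠ p.1 ∧
    twE6.π p.2.2.1 ≠ p.2.2.1 ∧ twE6.π p.2.2.2.2 = p.2.2.2.2 ∧ p.2.2.2.1 * p.2.2.2.1 = 1 ∧
    ∀ i : Fin chevF4.rank, fE p.2.2.2.2 ≠ chevF4.simple i := by
  decide +kernel

theorem e6all : ∀ r < 72, 48 ≤ 2 * fE r → twE6.π r = r ∨ (∃ i : Fin chevF4.rank, fE r = chevF4.simple i) ∨
    ∃ p ∈ e6d, fE r = fE p.1 := by
  decide +kernel

variable [Finite K] {q : ℕ}

theorem hom_TE6 (h : IsTw chevE6 twE6 x φ σ) (E : h.fold.Emb e) (hφ : ∀ t, φ t = t ^ q)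
    (hK : Nat.card K = q ^ 2) (hq : 1 < q) (hφk : ∀ t, φ^[2] t = t) : Hom ((S2341.fold.fm h).pre E) :=
  hom_of fun N c α h1 h2 => by
    have L := S2341.fold.ld h per_E6 E hφk (exists_trace_ne hφ hK hq two_pos)
    obtain ⟨r, rfl⟩ := (S2341.fold.fm h).surj α
    obtain e1 | ⟨i, e1⟩ | ⟨p, hp, e1⟩ := e6all r r.2 ((rs_isPos_iff_le _).1 h1)
    · exact c.long L ((S2341.fold.lg_fm h).2 e1) h1 h2
    · exact (h2 i (Fin.ext e1)).elim
    obtain ⟨⟨a1, a2, a3, a4⟩, ⟨b1, b2, b3⟩, c1, c2, c3, c4, c5⟩ := e6ok p hp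
    rw [show (S2341.fold.fm h).φ r = (S2341.fold.fm h).φ ⟨p.1, a1⟩ from Fin.ext e1]
    intro z hz
    obtain ⟨t, -, ht⟩ := (S2341.fold.mem_X h per_E6 E).1 hz
    have d1 : ∀ s : Fin chevF4.nroots, s.1 ∈ [fE p.2.2.2.2] → s = (S2341.fold.fm h).φ ⟨_, a4⟩ :=
      fun s hs => Fin.ext (List.mem_singleton.1 hs)
    have d2 : ((p.2.2.2.1 : ℤ) : K) * p.2.2.2.1 = 1 := by rw [← Int.cast_mul, c4, Int.cast_one]
    refine tw_step S2341.fold h per_E6 E (collFor_E6 0 id) (charOK_zero K) c (S := [fE p.2.2.2.2])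
      (fun s hs => ?_) ?_ ⟨_, a1⟩ ⟨_, a2⟩ ⟨_, a3⟩ b1 b2 (one_mem _) (tg := p.2.2.2.1 * t)
      (by rw [Chev.mem_Fx, kr_ne c2]; exact hφk _) (fun i => φ^[i] (p.2.2.2.1 * t)) _ _ _ (fun j _ => ?_)
      (fun j _ => by simp) (fun j _ => by simp) (e6chk p hp) ht
    · rw [d1 s hs]
      have := (rs_isPos_iff_le ((S2341.fold.fm h).φ ⟨_, a4⟩)).2 b3
      exact ⟨this, c.long L ((S2341.fold.lg_fm h).2 c3) this fun i e => c5 i (congrArg Fin.val e)⟩
    · rw [show {s : Fin chevF4.nroots | s.1 ∈ [fE p.2.2.2.2]} = {(S2341.fold.fm h).φ ⟨_, a4⟩} from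
        Set.ext fun s => ⟨d1 s, fun e => List.mem_singleton.2 (congrArg Fin.val e)⟩]
      exact PreRGD.Nondeg.closed_singleton _
    · simp [← RingHom.coe_pow, ← mul_assoc, d2]

theorem exists_sym (hφ : ∀ t, φ t = t ^ q) (hK : Nat.card K = q ^ 3) (hq : 1 < q)
    (hφk : ∀ t, φ^[3] t = t) (w : K) : ∃ t u : K, φ t * u + t * φ u = w := by
  have h3 : ∀ t, φ (φ (φ t)) = t := hφk
  by_cases h2 : (2 : K) = 0
  · obtain ⟨z, hz⟩ := exists_zpow_ne_one (K := K) (n := q - 1) fun h => by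
      have h1 := Int.le_of_dvd (by omega) h
      rw [hK] at h1; push_cast at h1
      nlinarith [mul_pos (show (0 : ℤ) < q by omega) (show (0 : ℤ) < q ^ 2 - 1 by nlinarith)]
    have h4 : (z : K) + φ z ≠ 0 := fun e => hz (Units.ext (by
      have : φ z = z := by linear_combination e - (z : K) * h2
      rw [zpow_sub_one, zpow_natCast]
      simp [← hφ, this]))
    by_cases h5 : w = 0
    · exact ⟨0, 0, by simp [h5]⟩
    have h6 : w / (z + φ z) ≠ 0 := div_ne_zero h5 h4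
    have : CharP K 2 := CharTwo.of_one_ne_zero_of_two_eq_zero one_ne_zero h2
    obtain ⟨b, hb⟩ := FiniteField.isSquare_of_char_two (ringChar.eq K 2)
      (w / (z + φ z) * φ (φ (w / (z + φ z))) / φ (w / (z + φ z)))
    generalize hs : w / (z + φ z) = s at h6 hb
    have h7 := congrArg φ hb
    rw [map_div₀, map_mul, map_mul, h3] at h7
    have h8 : φ s ≠ 0 := by simpa
    have h9 : φ (φ s) ≠ 0 := by simpa
    have h10 : (b * φ b - s) ^ 2 = 0 := by
      have : (b * b) * (φ b * φ b) = s * s := by rw [← hb, ← h7]; field_simp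
      linear_combination this + (s * s - b * φ b * s) * h2
    refine ⟨b, b * z, ?_⟩
    rw [map_mul, ← div_mul_cancel₀ w h4, hs, ← sub_eq_zero.1 (pow_eq_zero_iff two_ne_zero |>.1 h10)]
    ring
  · refine ⟨1, (w - φ w + φ (φ w)) / 2, ?_⟩
    rw [map_div₀, map_add, map_sub, h3, map_one, map_ofNat]
    field_simp; ring

theorem closedG (S : List ℕ) (h1 : ∀ r : Fin chevG2.nroots, r.1 ∈ S → chevG2.nroots ≤ 2 * r.1)
    (h2 : ∀ r s k : Fin chevG2.nroots, r.1 ∈ S → s.1 ∈ S →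
      (∀ i, rc chevG2 r i + rc chevG2 s i ≤ rc chevG2 k i) → k.1 ∈ S) :
    (rs chevG2).Closed {r | r.1 ∈ S} := fun r hr s hs k hk =>
  h2 r s k hr hs (le_of_intv ((rs_isPos_iff_le r).2 (h1 r hr)) ((rs_isPos_iff_le s).2 (h1 s hs)) hk)

theorem hom_TD4 (h : IsTw chevD4 twD4a x φ σ) (E : h.fold.Emb e) (hφ : ∀ t, φ t = t ^ q)
    (hK : Nat.card K = q ^ 3) (hq : 1 < q) (hφk : ∀ t, φ^[3] t = t) : Hom ((S2342.fold.fm h).pre E) :=
  hom_of fun N c α h1 h2 => by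
    have L := S2342.fold.ld h per_D4 E hφk (exists_trace_ne hφ hK hq three_pos)
    have h3 : ∀ t, φ (φ (φ t)) = t := hφk
    have pos : ∀ s : Fin chevG2.nroots, 6 ≤ s.1 → (rs chevG2).IsPos s := fun s hs =>
      (rs_isPos_iff_le s).2 (show 12 ≤ _ by omega)
    have k1 : ∀ s : Fin chevG2.nroots, s.1 ∈ [10, 11] → (rs chevG2).IsPos s ∧
        ((S2342.fold.fm h).pre E).X s ≤ N := fun s hs => by
      have := (by decide : ∀ s : Fin chevG2.nroots, s.1 ∈ [10, 11] → 6 ≤ s.1 ∧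
        (∀ i : Fin chevG2.rank, s.1 ≠ chevG2.simple i) ∧
          ∀ r < chevG2.nroots, r ≠ s → chevG2.pairing s r ≤ 1) s hs
      exact ⟨pos s this.1, c.long L (lg_iff.2 this.2.2) (pos s this.1)
        fun i e => this.2.1 i (congrArg Fin.val e)⟩
    have mf : ∀ r : Fin chevD4.nroots, twD4a.π r ≠ r → ∀ t, t ∈ Chev.Fx twD4a 3 φ r := fun r hr t => by
      rw [Chev.mem_Fx, kr_ne hr]; exact hφk _
    have k2 : ((S2342.fold.fm h).pre E).X ((S2342.fold.fm h).φ ⟨21, by decide⟩) ≤ N := fun z hz => by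
      obtain ⟨w, -, hw⟩ := (S2342.fold.mem_X h per_D4 E).1 hz
      obtain ⟨t, u, rfl⟩ := exists_sym hφ hK hq hφk w
      refine tw_step S2342.fold h per_D4 E (collFor_D4 0 id) (charOK_zero K) c k1
        (closedG _ (by decide) (by decide)) ⟨21, by decide⟩ ⟨18, by decide⟩ ⟨19, by decide⟩ (by decide)
        (by decide) (mf _ (by decide) t) (mf _ (by decide) u)
        (List.getD [t, φ t, φ (φ t), u, φ u, φ (φ u)] · 0)
        (fun j => [(1, [(j + 1) % 3, 3 + j]), (1, [j, 3 + (j + 1) % 3])]) (fun j => [(1, [j])])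
        (fun j => [(1, [3 + j])]) (fun j hj => ?_) (fun j hj => ?_) (fun j hj => ?_) (by decide +kernel) hw
      all_goals interval_cases j <;> simp [h3]
    have k3 : ∀ s : Fin chevG2.nroots, s.1 ∈ [9, 10, 11] → (rs chevG2).IsPos s ∧
        ((S2342.fold.fm h).pre E).X s ≤ N := fun s hs => by
      rcases List.mem_cons.1 hs with e | e
      · exact ⟨pos s (by omega), (show (S2342.fold.fm h).φ ⟨21, by decide⟩ = s from
          Fin.ext ((show S2342.fd 21 = 9 by decide).trans e.symm)) ▸ k2⟩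
      · exact k1 s e
    have k4 : ((S2342.fold.fm h).pre E).X ((S2342.fold.fm h).φ ⟨19, by decide⟩) ≤ N := fun z hz => by
      obtain ⟨w, -, hw⟩ := (S2342.fold.mem_X h per_D4 E).1 hz
      refine tw_step S2342.fold h per_D4 E (collFor_D4 0 id) (charOK_zero K) c k3
        (closedG _ (by decide) (by decide)) ⟨19, by decide⟩ ⟨14, by decide⟩ ⟨18, by decide⟩ (by decide)
        (by decide) (one_mem _) (mf _ (by decide) w) (fun i => φ^[i] w)
        (fun j => [(1, [j])]) (fun _ => [(1, [])]) (fun j => [(1, [j])]) (fun j _ => by simp)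
        (fun j _ => by simp) (fun j _ => by simp) (by decide +kernel) hw
    have a1 : α.1 ≠ 7 := fun e => h2 ⟨0, by decide⟩ (Fin.ext e)
    have a2 : α.1 ≠ 6 := fun e => h2 ⟨1, by decide⟩ (Fin.ext e)
    have a3 : 12 ≤ 2 * α.1 := (rs_isPos_iff_le α).1 h1
    have a4 : α.1 < 12 := α.2
    by_cases e : α.1 = 8
    · exact (show (S2342.fold.fm h).φ ⟨19, by decide⟩ = α from
        Fin.ext ((show S2342.fd 19 = 8 by decide).trans e.symm)) ▸ k4
    · exact (k3 α (by simp; omega)).2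

end Cfsg.Agent.T2I
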