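/-
Doubly transitive actions: linear groups, and the exceptional groups other than `F₄`.
-/
import Cfsg.Agent.Lib.T2I.D
import Cfsg.Agent.Lib.T2I.Hom
import Cfsg.Agent.Lib.T2I.Hom2
import Cfsg.Agent.Lib.T2X.E8
import Cfsg.Agent.Lib.T2X.D4
import Cfsg.Agent.Lib.T2.SL
import Cfsg.Agent.Lib.T2R.L2
import Cfsg.Agent.Lib.LieId.Trans

set_option autoImplicit false

namespace Cfsg.Agent.T2I

open Cfsg.Lie Cfsg.Agent.Chev Cfsg.Agent.ChevM Cfsg.Agent.T2 Cfsg.Agent.RD Cfsg.Agent.T2X Cfsg.Agent.T2R Matrix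

variable {G Ω : Type*} [Group G] [MulAction G Ω] [FaithfulSMul G Ω] [Nontrivial Ω]

theorem psl [Fintype Ω] {F : Type} [Field F] [Fintype F] {k : ℕ} (hk : 3 ≤ k)
    (e : G ≃* ProjectiveSpecialLinearGroup (Fin k) F) (h : Two G Ω) : Concl G (Fintype.card Ω) := by
  let f : SpecialLinearGroup (Fin k) F →* G := e.symm.toMonoidHom.comp (QuotientGroup.mk' _)
  have hf : Function.Surjective f := e.symm.surjective.comp (QuotientGroup.mk'_surjective _)
  let _ : MulAction (SpecialLinearGroup (Fin k) F) Ω := MulAction.compHom Ω f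
  rcases sl hk (h.comp (G' := SpecialLinearGroup (Fin k) F) fun g => let ⟨g', e⟩ := hf g; ⟨g', fun a => e ▸ rfl⟩) with
    h1 | ⟨h1, rfl | rfl, h2⟩
  · exact Or.inl ⟨F, _, inferInstance, k, hk, ⟨e⟩, h1⟩
  · have : Fact (Nat.Prime 7) := ⟨by norm_num⟩
    obtain ⟨e'⟩ := iso27 (F := ZMod 7) (ZMod.card 7)
    exact Or.inr (Or.inl ⟨ZMod 7, _, inferInstance, by simp, ⟨(e.trans (Forms.centerQuotEquiv (Lin.slEquiv
      (FiniteField.ringEquivOfCardEq (h1.trans (ZMod.card 2).symm))))).trans e'.symm⟩, by simp [h2]⟩)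
  · exact Or.inr (Or.inr (Or.inr (Or.inr (Or.inr (Or.inr (Or.inr (Or.inl ⟨F, _, inferInstance, h1, ⟨e⟩, h2⟩)))))))

variable [Finite Ω] {F : Type*} [Field F] [Fintype F]

theorem not_G2 (hq : 3 ≤ Fintype.card F) (e : G ≃* chevG2.group F) (h : Two G Ω) : False := by
  obtain ⟨_, _, h⟩ := transport e h
  refine not_B_G2 (Nat.card_eq_fintype_card (α := F) ▸ hq) h ?_
  rcases hq.eq_or_lt with h1 | h1
  · exact g23 h1.symm h
  · exact chev_trans fs_G2 (hom_G2 (Nat.card_eq_fintype_card (α := F) ▸ h1)) h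

theorem not_E6 (e : G ≃* chevE6.group F) (h : Two G Ω) : False := by
  obtain ⟨_, _, h⟩ := transport e h
  exact not_B_E6 h (chev_trans fs_E6 hom_E6 h)

theorem not_E7 (e : G ≃* chevE7.group F) (h : Two G Ω) : False := by
  obtain ⟨_, _, h⟩ := transport e h
  exact not_B_E7 h (chev_trans fs_E7 hom_E7 h)

theorem not_E8 (e : G ≃* chevE8.group F) (h : Two G Ω) : False := by
  obtain ⟨_, _, h⟩ := transport e h
  exact not_B_E8 h (chev_trans fs_E8 hom_E8 h)

section tw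
variable {D D' : ChevalleyDatum} [Tab D] [Tab D'] {T : TwData} {k : ℕ} {f ψ rep : ℕ → ℕ} {K : Type*} [Field K]
  [Finite K] {φ : K →+* K} {σ : D.group K →* D.group K} (C : FoldOK D D' T k f ψ rep)
  (h : IsTw D T (xG D K) φ σ) {Γ : Type*} [Group Γ] {e : Γ →* D.group K} (E : h.fold.Emb e) [MulAction Γ Ω]

theorem tw_trans' (hF : FS (rs D')) (hH : Hom ((C.fm h).pre E)) (h2 : Two Γ Ω) :
    ∀ a b : Ω, ∃ g ∈ ((C.fm h).pre E).B, g • a = b := by
  obtain ⟨p, _⟩ := CharP.exists K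
  have : Fact p.Prime := ⟨CharP.char_is_prime K p⟩
  have : Finite Γ := Finite.of_injective e E.inj
  have hU : IsPGroup p ((C.fm h).pre E).U :=
    ((isPGroup_U (D := D) (F := K) p).comap_of_injective e E.inj).to_le fun g hg => ((C.fm h).mem_U E).mp hg
  exact trans_B ((C.fm h).pre_nondeg E) ((C.fm h).pre_full E) hU hH hF h2

end tw

theorem not_tE6 {q : ℕ} (hq : IsPrimePow q) (hK : Fintype.card F = q ^ 2) (e : G ≃* twistedE6 F q) (h : Two G Ω) :
    False := by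
  obtain ⟨_, _, h⟩ := transport e h
  obtain ⟨p, _, _, -, φ, hφ, hφk⟩ := exists_frob hq hK
  exact not_B_tE6 hq hK hφ hφk h (tw_trans' _ _ _ fs_F4
    (hom_TE6 _ _ hφ (Nat.card_eq_fintype_card.trans hK) hq.one_lt hφk) h)

theorem not_tD4 {q : ℕ} (hq : IsPrimePow q) (hK : Fintype.card F = q ^ 3) (e : G ≃* twistedD4 F q) (h : Two G Ω) :
    False := by
  obtain ⟨_, _, h⟩ := transport e h
  obtain ⟨p, _, _, -, φ, hφ, hφk⟩ := exists_frob hq hK
  exact not_B_tD4 hq hK hφ hφk h (tw_trans' _ _ _ fs_G2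
    (hom_TD4 _ _ hφ (Nat.card_eq_fintype_card.trans hK) hq.one_lt hφk) h)

end Cfsg.Agent.T2I
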