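/-
Doubly transitive actions: the groups of type `F₄`.
-/
import Cfsg.Agent.Lib.T2I.Fin
import Cfsg.Agent.Lib.T2I.F42
import Cfsg.Agent.Lib.T2X.F4c

set_option autoImplicit false

namespace Cfsg.Agent.T2I

open Cfsg.Lie Cfsg.Agent.Chev Cfsg.Agent.ChevM Cfsg.Agent.T2 Cfsg.Agent.RD Cfsg.Agent.T2X Cfsg.Agent.T2R

theorem not_F4 {G Ω : Type*} [Group G] [MulAction G Ω] [FaithfulSMul G Ω] [Nontrivial Ω] [Finite Ω] {F : Type*} [Field F]
    [Fintype F] (e : G ≃* chevF4.group F) (h : Two G Ω) : False := by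
  obtain ⟨_, _, h⟩ := transport e h
  refine not_B_F4 h ?_
  rcases (show 2 ≤ Fintype.card F from Fintype.one_lt_card).eq_or_lt with h1 | h1
  · have : CharP F 2 := charP_of_card_eq_prime h1.symm
    exact chev_trans' fs_F4 2 h ((f42 h1.symm h).imp_left fun e => e.not_two_dvd_nat)
  · exact chev_trans fs_F4 (hom_F4 (Nat.card_eq_fintype_card (α := F) ▸ h1)) h

end Cfsg.Agent.T2I
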