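/-
Linear characters of the maximal unipotent subgroup of an orthogonal group.
-/
import Cfsg.Agent.Lib.T2I.Hom
import Cfsg.Agent.Lib.Gauss.ClsP

set_option autoImplicit false

namespace Cfsg.Agent.T2I

open Cfsg.Agent.Chev Cfsg.Agent.Cls Cfsg.Agent.Forms Cfsg.Agent.Forms.Form Cfsg.Agent.Gauss.BCD
open scoped commutatorElement

variable {F : Type*} [Field F] {V : Type*} [AddCommGroup V] [Module F V] {f : Form (Param.orth F) V}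
  {m κ : ℕ} (fr : Frame f (PM m))

theorem isE_orth_eq {g g' : f.Isom} {u v : V} {l l' : F} (h : IsE g u v l) (h' : IsE g' u v l') :
    g = g' := h.eq (h'.congr rfl ((f.orth_isLam_iff.1 h'.lam).trans (f.orth_isLam_iff.1 h.lam).symm))

theorem isE_comm {h x : f.Isom} {u v : V} {l : F} (hu : f.Q u = 0) (hh : h.1 u = u) (hx : IsE x u v l) :
    ∃ l', IsE ⁅h, x⁆ u (h.1 v - v) l' :=
  ⟨_, ((hh ▸ hx.conj h : IsE _ u _ _).mul hu (hx.inv hu)).congr (sub_eq_add_neg _ _).symm rfl⟩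

theorem comm_AA' {i j k : PM m} (h1 : j ≠ i) (h2 : j ≠ -i) (h3 : k ≠ -i) (h4 : k ≠ j) (h5 : k ≠ -j)
    {z : f.Isom} (hz : z ∈ fr.RA i k) : ∃ x ∈ fr.RA i j, ∃ y ∈ fr.RA (-j) k, z = ⁅y, x⁆ := by
  obtain ⟨a, hz⟩ := hz
  obtain ⟨x, hx⟩ := fr.exists_RA h2 (a / f.B (fr.e j) (fr.e (-j)))
  obtain ⟨y, hy⟩ := fr.exists_RA (i := -j) (j := k) (by rwa [neg_neg]) 1
  obtain ⟨l, hl⟩ := isE_comm (fr.Qe i)
    (fr.RA_apply ⟨_, hy⟩ (by rw [neg_neg]; exact h1.symm) (ne_neg_swap h3)) hx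
  refine ⟨x, ⟨_, hx⟩, y, ⟨_, hy⟩, isE_orth_eq hz (hl.congr ?_ rfl)⟩
  have := fr.B_ne j
  rw [map_smul, hy.app, one_smul, fr.B_eq' (ne_neg_swap h5)]
  match_scalars <;> field_simp <;> simp

theorem comm_CC' {i j : PM m} (h1 : j ≠ -i) (hV : ∃ v ∈ fr.V0, ∃ w ∈ fr.V0, f.B v w ≠ 0)
    {z : f.Isom} (hz : z ∈ fr.RA i j) : ∃ x ∈ fr.RC i, ∃ y ∈ fr.RC j, z = ⁅y, x⁆ := by
  obtain ⟨a, hz⟩ := hz
  obtain ⟨v, hv, w, hw, h0⟩ := hV
  have hv' := Submodule.smul_mem _ (-a / f.B v w) hv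
  obtain ⟨x, hx⟩ := exists_isE (fr.Qe i) (fr.mem_V0.1 hv' i) (f.orth_isLam _)
  obtain ⟨y, hy⟩ := exists_isE (fr.Qe j) (fr.mem_V0.1 hw j) (f.orth_isLam _)
  obtain ⟨l, hl⟩ := isE_comm (fr.Qe i) (fr.RC_apply ⟨_, hw, _, hy⟩ (ne_neg_swap h1)) hx
  refine ⟨x, ⟨_, hv', _, hx⟩, y, ⟨_, hw, _, hy⟩, isE_orth_eq hz (hl.congr ?_ rfl)⟩
  rw [map_smul, hy.app, fr.mem_V0.1 hv]
  match_scalars <;> field_simp <;> simp

theorem comm_AC' {i j : PM m} (h1 : j ≠ i) (h2 : j ≠ -i) {z : f.Isom} (hz : z ∈ fr.RC i) :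
    ∃ x ∈ fr.RA i (-j), ∃ y ∈ fr.RC j, ∃ s ∈ fr.RA i j, z = ⁅y, x⁆ * s := by
  obtain ⟨v, hv, l, hz⟩ := hz
  obtain ⟨x, hx⟩ := fr.exists_RA (i := i) (j := -j) (neg_ne_neg_of h1) (f.B (fr.e (-j)) (fr.e j))⁻¹
  obtain ⟨y, hy⟩ := exists_isE (fr.Qe j) (fr.mem_V0.1 hv j) (f.orth_isLam _)
  obtain ⟨s, hs⟩ := fr.exists_RA h2 (f.Q v)
  obtain ⟨l', hl⟩ := isE_comm (fr.Qe i) (fr.RC_apply ⟨_, hv, _, hy⟩ (ne_neg_swap h2)) hx
  refine ⟨x, ⟨_, hx⟩, y, ⟨_, hv, _, hy⟩, s, ⟨_, hs⟩, isE_orth_eq hz ((hl.mul (fr.Qe i) hs).congr ?_ rfl)⟩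
  have := fr.B_ne' j
  rw [map_smul, hy.app, f.B_eq_zero_symm (fr.mem_V0.1 hv _)]
  match_scalars <;> field_simp <;> simp

theorem hom_bcd (hκ : κ ≤ 1) (hκ' : κ ≤ 2) (hm : 2 ≤ m)
    (hV : κ = 1 → ∃ v ∈ fr.V0, ∃ w ∈ fr.V0, f.B v w ≠ 0) {G : Type*} [Group G]
    (P : PreRGD (RS hκ' hm) G) (e : G →* f.Isom) (he : Function.Injective e)
    (hX : ∀ i j (h : Ok κ i j) g, g ∈ P.X (rt h) ↔ e g ∈ fr.RX i j)
    (hs : ∀ i j, Ok κ i j → ∀ x ∈ fr.RX i j, ∃ g, e g = x) : Hom P := hom_of fun N c => by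
  have c1 : ∀ {i j k l} (h : Ok κ i j) (h' : Ok κ k l), 0 < η i + η j → 0 < η k + η l → ∀ x ∈ fr.RX i j,
      ∀ y ∈ fr.RX k l, ⁅y, x⁆ ∈ N.map e := fun {i j k l} h h' a b x hx y hy => by
    obtain ⟨x, rfl⟩ := hs i j h x hx
    obtain ⟨y, rfl⟩ := hs k l h' y hy
    refine ⟨_, c y⁻¹ (inv_mem (P.X_le_U ((isPos_rt hκ' hm h').2 b) ((hX _ _ h' y).2 hy))) x⁻¹
      (inv_mem (P.X_le_U ((isPos_rt hκ' hm h).2 a) ((hX _ _ h x).2 hx))), ?_⟩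
    simp [commutatorElement_def]
  have AA : ∀ {i j k : PM m}, j ≠ i → j ≠ -i → k ≠ -i → k ≠ j → k ≠ -j → 0 < η i + η j →
      0 < η (-j) + η k → ∀ z ∈ fr.RA i k, z ∈ N.map e := fun {i j k} h1 h2 h3 h4 h5 a b z hz => by
    obtain ⟨x, hx, y, hy, rfl⟩ := comm_AA' fr h1 h2 h3 h4 h5 hz
    exact c1 ⟨h2, .inl h1⟩ ⟨by rwa [neg_neg], .inl h5⟩ a b x ((fr.RX_of_ne h1).ge hx) y
      ((fr.RX_of_ne h5).ge hy)
  have L : ∀ (a b : Fin m) (t : Bool), a < b → (t = false → a.1 + 1 ≠ b) → (t = true → κ = 0 → a.1 + 2 ≠ m) →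
      ∀ z ∈ fr.RA ⟨a, true⟩ ⟨b, t⟩, z ∈ N.map e := fun a b t h1 h2 h3 z hz => by
    have := b.2
    have h1' : a.1 < b.1 := h1
    by_cases e1 : a.1 + 1 = b
    · obtain rfl : t = true := by simpa [e1] using h2
      by_cases e2 : a.1 + 2 = m
      · have k1 : κ = 1 := by have := h3 rfl; omega
        obtain ⟨x, hx, y, hy, rfl⟩ := comm_CC' fr (by simp) (hV k1) hz
        exact c1 ⟨(PM.neg_ne _).symm, .inr (by omega)⟩ ⟨(PM.neg_ne _).symm, .inr (by omega)⟩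
          (by simp [η, sg]) (by simp [η, sg]) x ((fr.RX_self _).ge hx) y ((fr.RX_self _).ge hy)
      · refine AA (j := ⟨⟨a + 2, by omega⟩, false⟩) ?_ ?_ ?_ ?_ ?_ ?_ ?_ z hz <;>
          simp [η, sg, Fin.ext_iff] <;> omega
    · refine AA (j := ⟨⟨a + 1, by omega⟩, false⟩) ?_ ?_ ?_ ?_ ?_ ?_ ?_ z hz <;> cases t <;>
        simp [η, sg, Fin.ext_iff] <;> omega
  have fin : ∀ {i j} (h : Ok κ i j), (∀ z ∈ fr.RX i j, z ∈ N.map e) → P.X (rt h) ≤ N :=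
    fun h hz g hg => by
      obtain ⟨n, hn, e1⟩ := hz _ ((hX _ _ h g).1 hg)
      exact he e1 ▸ hn
  have key : ∀ (a b : Fin m) (t : Bool) (h : Ok κ ⟨a, true⟩ ⟨b, t⟩), a ≤ b →
      (∀ i, rt h ≠ (RS hκ' hm).simple i) → P.X (rt h) ≤ N := fun a b t h h1 h2 => fin h fun z hz => by
    have := b.2
    have sim : ∀ k : Fin m, p1 κ k = ⟨a, true⟩ → p2 k = ⟨b, t⟩ → False := fun k e1 e2 =>
      h2 k (Subtype.ext (show vec κ _ _ = vec κ (p1 κ k) (p2 k) by rw [e1, e2]))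
    rcases h1.eq_or_lt with rfl | h1
    · obtain rfl : t = true := by
        have := h.1
        cases t <;> simp at this ⊢
      have k1 : κ = 1 := by have := h.2; simp at this; omega
      have e2 : a.1 + 1 < m := not_le.1 fun e2 => sim a (if_pos (.inr (by omega))) (dif_neg (by omega))
      obtain ⟨x, hx, y, hy, s, hs', rfl⟩ := comm_AC' fr (j := ⟨⟨a + 1, e2⟩, true⟩) (by simp [Fin.ext_iff])
        (by simp) ((fr.RX_self _).le hz)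
      refine mul_mem (c1 ⟨by simp [Fin.ext_iff], .inr (by omega)⟩ ⟨(PM.neg_ne _).symm, .inr (by omega)⟩
        (by simp [η, sg]) (by simp [η, sg]; omega) x ((fr.RX_of_ne (by simp)).ge hx) y
        ((fr.RX_self _).ge hy)) (L a _ true (by simp [Fin.lt_def]) (by simp) (by omega) s hs')
    · refine L a b t h1 (fun e1 e2 => sim a (if_pos (.inl (by omega))) ?_) (fun e1 e2 e3 => sim b ?_ ?_) z
        ((fr.RX_of_ne (by simp [h1.ne'])).le hz)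
      · rw [p2, dif_pos (by omega), e1]; simp [Fin.ext_iff, e2]
      · have : a.1 < b.1 := h1
        rw [p1, if_neg (by omega)]; simp [Fin.ext_iff]; omega
      · have : a.1 < b.1 := h1
        rw [p2, dif_neg (by omega), e1]
  intro r hr hi
  obtain ⟨⟨a, s⟩, ⟨b, t⟩, h, rfl⟩ := exists_rt r
  have h0 := (isPos_rt hκ' hm h).1 hr
  have := a.2
  have := b.2
  rcases le_total a b with e1 | e1
  · obtain rfl : s = true := by
      have : a.1 ≤ b.1 := e1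
      cases s <;> cases t <;> simp [η, sg] at h0 ⊢ <;> omega
    exact key a b t h e1 hi
  · obtain rfl : t = true := by
      have : b.1 ≤ a.1 := e1
      cases s <;> cases t <;> simp [η, sg] at h0 ⊢ <;> omega
    rw [rt_symm h] at hi ⊢
    exact key b a s h.symm e1 hi

end Cfsg.Agent.T2I
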