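/-
The root group datum of a classical group of type `B`, `C` or `D` with an arbitrary anisotropic part.
-/
import Cfsg.Agent.Lib.Gauss.ClsP

set_option autoImplicit false

namespace Cfsg.Agent.T2I

open Cfsg.Agent.Chev Cfsg.Agent.Chev.RSys Cfsg.Agent.Cls Cfsg.Agent.Forms Cfsg.Agent.Forms.Form
  Cfsg.Agent.Gauss Cfsg.Agent.Gauss.BCD
open scoped commutatorElement

variable {F : Type*} [Field F] {P : Param F} {V : Type*} [AddCommGroup V] [Module F V] {f : Form P V} {m κ : ℕ}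
  {fr : Frame f (PM m)}

variable (κ fr) in
/-- Frames with a reduced root system. -/
structure Ty : Prop where
  le : κ ≤ 2
  hasC : κ ≠ 0 → fr.HasC
  lam : κ ≠ 2 → ∀ v l l', f.IsLam v l → f.IsLam v l' → l = l'
  V0 : κ ≠ 1 → ∀ v ∈ fr.V0, v = 0
  nd : ∀ v ∈ fr.V0, (∀ w ∈ fr.V0, f.B v w = 0) → v = 0

namespace Ty

variable (T : Ty κ fr)
include T

theorem exists_ne_one {i j : PM m} (h : Ok κ i j) : ∃ x ∈ fr.RX i j, x ≠ 1 :=
  fr.exists_RX_ne_one (h.2.imp_right T.hasC) h.1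

theorem exists_W {i j : PM m} (h : Ok κ i j) : ∃ r, r ∈ WW fr i j := pSt0.W_nonempty (h.2.imp_right T.hasC) h.1

theorem exists_n (r : Rt m κ) : ∃ g ∈ fr.Mon, ∀ i j (h : Ok κ i j), r = rt h → ∀ a, fr.Mv g a (sw i j a) := by
  obtain ⟨i, j, h, rfl⟩ := exists_rt r
  obtain ⟨g, hg⟩ := T.exists_W h
  refine ⟨g, hg.1, fun k l h' e => ?_⟩
  rcases vec_inj h h' (congrArg Subtype.val e) with ⟨rfl, rfl⟩ | ⟨rfl, rfl⟩
  · exact W_mv h.1 hg
  · exact W_mv h'.1 (pSt0.W_symm h.1 hg)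

/-- The representatives of the reflections. -/
noncomputable def nn (r : Rt m κ) : f.Isom := (T.exists_n r).choose

theorem nn_mem (r : Rt m κ) : T.nn r ∈ fr.Mon := (T.exists_n r).choose_spec.1

theorem nn_mv {i j : PM m} (h : Ok κ i j) (a : PM m) : fr.Mv (T.nn (rt h)) a (sw i j a) :=
  (T.exists_n _).choose_spec.2 i j h rfl a

theorem commute_U (h : κ ≠ 2) {i : PM m} {x y : f.Isom} (hx : x ∈ fr.U i) (hy : y ∈ fr.U i) : Commute x y := by
  obtain ⟨v, l, hx⟩ := hx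
  obtain ⟨v', l', hy⟩ := hy
  have h1 := hx.mul (fr.Qe i) hy
  have h2 := hy.mul (fr.Qe i) hx
  rw [add_comm v'] at h2
  exact h1.eq (h2.congr rfl (T.lam h _ _ _ h2.lam h1.lam))

variable (hm : 2 ≤ m)

theorem comm (r s : Rt m κ) (hs : s ≠ neg r) :
    ∀ x ∈ XX fr r, ∀ y ∈ XX fr s, ⁅x, y⁆ ∈ USub (XX fr) ((RS T.le hm).intv r s) := by
  let C : Rt m κ → Rt m κ → Prop := fun r s =>
    ∀ x ∈ XX fr r, ∀ y ∈ XX fr s, ⁅x, y⁆ ∈ USub (XX fr) ((RS T.le hm).intv r s)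
  have hκ := T.le
  have sy : ∀ {r s}, C r s → C s r := fun h x hx y hy => by
    simpa [intv_comm] using inv_mem (h y hy x hx)
  have c0 : ∀ {x y : f.Isom} {S}, Commute x y → ⁅x, y⁆ ∈ USub (XX (κ := κ) fr) S := fun h => by
    rw [h.commutator_eq]; exact one_mem _
  have c1 : ∀ {i j : PM m} (h : Ok κ i j) {r s : Rt m κ} (a b : ℕ), 0 < a → 0 < b →
      vec κ i j = (a : ℤ) • r.1 + (b : ℤ) • s.1 → fr.RX i j ≤ USub (XX fr) ((RS T.le hm).intv r s) :=
    fun h _ _ a b ha hb e => (XX_rt h).ge.trans (le_USub (mem_intv T.le hm ha hb e))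
  have AC : ∀ {i j : PM m} (h : Ok κ i j) (h' : Ok κ (-j) (-j)), j ≠ i → C (rt h) (rt h') := fun {i j} h h' e x hx y hy => by
    rw [XX_rt, fr.RX_of_ne e] at hx
    rw [XX_rt, fr.RX_self] at hy
    have h0 := h'.2.resolve_left (not_not.mpr rfl)
    refine (sup_le ?_ ?_ : fr.RS i (-j) ⊔ fr.RC i ≤ _) (fr.rgd.R5 i j e h.1 x hx y hy)
    · refine (fr.RX_of_ne (neg_ne_of h.1)).ge.trans (c1 ⟨neg_ne_neg_of e, .inr h0⟩ 1 (3 - κ) one_pos (by omega) ?_)
      simp only [rt, vec, if_neg e, if_neg (neg_ne_of h.1), if_true, ev_neg]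
      interval_cases κ
      · omega
      all_goals module
    · refine (fr.RX_self i).ge.trans (c1 ⟨(PM.neg_ne i).symm, .inr h0⟩ κ 1 (by omega) one_pos ?_)
      simp only [rt, vec, if_neg e, if_true, ev_neg]
      module
  have AA : ∀ {i j l : PM m} (h : Ok κ i j) (h' : Ok κ (-j) l), j ≠ i → l ≠ -j → l ≠ -i → C (rt h) (rt h') :=
    fun {i j l} h h' e e1 e2 x hx y hy => by
    rw [XX_rt, fr.RX_of_ne e] at hx
    rw [XX_rt, fr.RX_of_ne e1] at hy
    by_cases e3 : l = i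
    · subst e3
      have hy' := fr.RA_swap h'.1 hy
      by_cases h2 : κ = 2
      · refine c1 ⟨e2, .inr (by omega)⟩ 1 1 one_pos one_pos ?_ ((fr.RX_self l).ge (fr.rgd.R2 l j e h.1 x hx y hy'))
        simp only [rt, vec, if_neg e, if_neg e1, if_true, ev_neg, h2]
        module
      · exact c0 (T.commute_U h2 (fr.RA_subset_U hx) (fr.RA_subset_U hy'))
    · refine c1 ⟨e2, .inl e3⟩ 1 1 one_pos one_pos ?_ ((fr.RX_of_ne e3).ge
        (fr.rgd.R3 i j l e h.1 e3 e2 (by simpa using h'.1) e1 x hx y hy))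
      simp only [rt, vec, if_neg e, if_neg e1, if_neg e3, ev_neg]
      module
  have AC' : ∀ {i j k : PM m} (h : Ok κ i j) (h' : Ok κ k k), j ≠ i → C (rt h) (rt h') := fun {i j k} h h' e => by
    by_cases e1 : k = -j
    · subst e1; exact AC h h' e
    by_cases e2 : k = -i
    · subst e2; exact rt_symm h ▸ AC h.symm h' e.symm
    intro x hx y hy
    rw [XX_rt, fr.RX_of_ne e] at hx
    rw [XX_rt, fr.RX_self] at hy
    exact c0 (fr.rgd.R4 i j k e h.1 e2 e1 x hx y hy)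
  obtain ⟨i, j, h, rfl⟩ := exists_rt r
  obtain ⟨k, l, h', rfl⟩ := exists_rt s
  have a3 : ¬ (k = -i ∧ l = -j) := by rintro ⟨rfl, rfl⟩; exact hs (neg_rt h).symm
  have a4 : ¬ (k = -j ∧ l = -i) := by rintro ⟨rfl, rfl⟩; exact hs ((rt_symm _).trans (neg_rt h).symm)
  change C _ _
  by_cases e : j = i <;> by_cases e' : l = k
  · subst e e'
    intro x hx y hy
    rw [XX_rt, fr.RX_self] at hx hy
    have e1 : l ≠ -j := fun e => a3 ⟨e, e⟩
    by_cases h1 : κ = 1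
    · by_cases e2 : l = j
      · subst e2; exact c0 (T.commute_U (by omega) (fr.RC_le_U _ hx) (fr.RC_le_U _ hy))
      refine c1 ⟨e1, .inl e2⟩ 1 1 one_pos one_pos ?_ ((fr.RX_of_ne e2).ge (fr.rgd.R6 j l e2 e1 x hx y hy))
      simp [rt, vec, e2, h1]
    · exact c0 (fr.commute_RC hy (fr.RC_apply hx e1) fun v hv => by rw [T.V0 h1 v hv, map_zero])
  · subst e; exact sy (AC' h' h e')
  · subst e'; exact AC' h h' e
  by_cases b1 : k = -j
  · subst b1; exact AA h h' e e' fun b => a4 ⟨rfl, b⟩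
  by_cases b2 : k = -i
  · subst b2; exact rt_symm h ▸ AA h.symm h' (Ne.symm e) e' fun b => a3 ⟨rfl, b⟩
  by_cases b3 : l = -j
  · subst b3; exact rt_symm h' ▸ AA h h'.symm e (Ne.symm e') b2
  by_cases b4 : l = -i
  · subst b4; exact rt_symm h ▸ rt_symm h' ▸ AA h.symm h'.symm (Ne.symm e) (Ne.symm e') b1
  intro x hx y hy
  rw [XX_rt, fr.RX_of_ne e] at hx
  rw [XX_rt, fr.RX_of_ne e'] at hy
  exact c0 (fr.rgd.R1 i j k l e h.1 e' h'.1 b2 b1 b4 b3 x hx y hy)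

/-- The root group datum. -/
noncomputable def PG : PreRGD (RS T.le hm) f.Isom := .ofRoots (XX fr) (HH fr) T.nn
  (fun g hg r x hx => by
    obtain ⟨i, j, h, rfl⟩ := exists_rt r
    rw [XX_rt] at hx ⊢
    exact (hg i).conj_RX (HH_le_Mon hg) (hg j) hx)
  (fun r s x hx => by
    obtain ⟨i, j, h, rfl⟩ := exists_rt r
    obtain ⟨k, l, h', rfl⟩ := exists_rt s
    rw [refl_rt, XX_rt] at *
    exact (T.nn_mv h k).conj_RX (T.nn_mem _) (T.nn_mv h l) hx)
  (fun r _ hg => Frame.conj_diag (T.nn_mem r) hg)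
  (fun r a => by
    obtain ⟨i, j, h, rfl⟩ := exists_rt r
    simpa [sw_sw T.le h] using (T.nn_mv h _).mul (T.nn_mv h a))
  (fun r s a => by
    obtain ⟨i, j, h, rfl⟩ := exists_rt r
    obtain ⟨k, l, h', rfl⟩ := exists_rt s
    have h1 := (T.nn_mv (h.sw T.le h') (sw i j (sw i j a))).inv
    rw [sw_conj (fun _ _ => sw_inj T.le h) (sw_neg T.le h), sw_sw T.le h a] at h1
    have h2 := (T.nn_mv h (sw i j a)).inv
    rw [sw_sw T.le h] at h2
    rw [refl_rt]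
    exact h1.mul (((T.nn_mv h _).mul (T.nn_mv h' _)).mul h2))
  (T.comm hm)
  (fun r y hy h0 => by
    obtain ⟨i, j, h, rfl⟩ := exists_rt r
    rw [RS_neg, XX_rt] at hy
    obtain ⟨z, hz, z', hz', hw⟩ := pSt0.exists_W h.neg.1 (mem_XR.mpr hy) h0
    rw [neg_neg, neg_neg, mem_XR, ← XX_rt h] at hz hz'
    refine ⟨_, inv_mem hz, (T.nn (rt h))⁻¹ * (z * y * z'), fun a => (T.nn_mv h a).inv.mul ?_, _, inv_mem hz', by group⟩
    exact sw_neg_neg T.le h a ▸ W_mv h.neg.1 hw a)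

theorem PG_X {i j : PM m} (h : Ok κ i j) : (T.PG hm).X (rt h) = fr.RX i j := XX_rt h

theorem PG_H : (T.PG hm).H = HH fr := rfl

theorem nondeg : (T.PG hm).Nondeg := by
  refine ⟨fun r => ?_, eq_bot_iff.mpr fun g ⟨h1, h2⟩ => ?_⟩
  · obtain ⟨i, j, h, rfl⟩ := exists_rt r
    obtain ⟨x, hx, h0⟩ := T.exists_ne_one h
    exact fun e => h0 (((T.PG_X hm h).symm.trans e).le hx)
  obtain ⟨u, hu, k, hk, e⟩ := (T.PG hm).mem_B_iff.mp h2
  have a1 := str_US (θ := fun i => -η i) (fun i => by rw [η_neg]) (fun i j h (e : ¬ _) => by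
    have := η_ne h.1
    rw [isPos_rt] at e
    omega) h1
  have a2 := str_US η_neg (fun i j h e => (isPos_rt T.le hm h).mp e) hu
  have a3 : ∀ i, g.1 (fr.e i) = fr.e i := fun i => by
    have b1 : g.1 (fr.e i) - fr.e i ∈ fr.V0 := fr.mem_V0.mpr fun l => by
      rw [← neg_neg l]
      by_cases b : η i ≤ η (-l)
      · exact B_Fl (a1 _ _ (e_mem_Fl le_rfl)) (by omega)
      obtain ⟨c, hc⟩ := hk i
      have b2 : f.B (fr.e i) (fr.e (- -l)) = 0 := fr.B_neg (by rintro rfl; omega)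
      have b3 := B_Fl (a2 _ _ (e_mem_Fl (k := i) le_rfl)) (l := -l) (by omega)
      rw [B_sub_left, b2, sub_zero] at b3 ⊢
      rw [e, Isom.mul_apply, hc, map_smul, B_smul_left, b3, mul_zero]
    have b2 := f.Q_add_of_orth (fr.mem_V0.mp b1 i)
    rw [sub_add_cancel, Isom.map_Q, fr.Qe, add_zero] at b2
    exact sub_eq_zero.mp (fr.aniso _ (fr.mem_V0.mp b1) b2.symm)
  refine fr.ext a3 fun v hv => sub_eq_zero.mp ?_
  have b1 := sub_mem (fr.mem_V0_of_mon (HH_le_Mon fun i => .of_eq (a3 i)) hv) hv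
  exact T.nd _ b1 fun w hw => B_Fl' (a1 0 v (V0_mem_Fl le_rfl hv)) one_pos hw

theorem EG_le {N : Subgroup f.Isom} (h : ∀ r, (T.PG hm).X r ≤ N) : fr.EG ≤ N := by
  refine fr.EG_le (fun i j a b => ?_) fun i => ?_
  · exact ((T.PG_X hm ⟨b, .inl a⟩).trans (fr.RX_of_ne a)).ge.trans (h _)
  by_cases h0 : κ = 0
  · rintro g ⟨v, hv, l, hg⟩
    obtain rfl := T.V0 (by omega) v hv
    exact (hg.congr rfl (T.lam (by omega) _ _ _ hg.lam (isE_one (fr.e i)).lam)).eq_one ▸ one_mem _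
  · exact ((T.PG_X hm ⟨(PM.neg_ne i).symm, .inr h0⟩).trans (fr.RX_self i)).ge.trans (h _)

theorem X_le_EG (r : Rt m κ) : (T.PG hm).X r ≤ fr.EG := by
  obtain ⟨i, j, h, rfl⟩ := exists_rt r
  exact (T.PG_X hm h).le.trans ((fr.RX_le_U i j).trans (fr.U_le_EG i))

theorem emb : (fold0 (T.PG hm)).Emb fr.EG.subtype :=
  ⟨ok0 (T.nondeg hm), Subtype.val_injective, fun _ => rfl, fun g => T.EG_le hm (T.PG hm).X_le_full g.2, by
    rw [Subgroup.range_subtype]
    refine (Subgroup.closure_le _).mpr ?_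
    rintro g ⟨-, i, h | h⟩ <;> exact USub_le_iff.mpr (fun r _ => T.X_le_EG hm r) h⟩

end Ty

end Cfsg.Agent.T2I
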