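/-
Doubly transitive actions of the groups `Ω`: the stabiliser of a flag is transitive.
-/
import Cfsg.Agent.Lib.T2I.RA
import Cfsg.Agent.Lib.T2I.HomB
import Cfsg.Agent.Lib.T2I.C
import Cfsg.Agent.Lib.T2X.B
import Cfsg.Agent.Lib.T2.SUa
import Cfsg.Agent.Lib.Tw.Fold2
import Cfsg.Agent.Lib.Cls.MSylow
import Cfsg.Agent.Lib.Cls.Conc
import Cfsg.Agent.Lib.Cls.EGid

set_option autoImplicit false

namespace Cfsg.Agent.T2I

open Module Cfsg.Agent.Chev Cfsg.Agent.Chev.RSys Cfsg.Agent.Cls Cfsg.Agent.Forms Cfsg.Agent.Forms.Form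
  Cfsg.Agent.Gauss Cfsg.Agent.Gauss.BCD Cfsg.Agent.T2 Cfsg.Agent.MI

/-- The trivial projection of root systems. -/
def fm0 {ι I : Type*} [Fintype I] [DecidableEq I] {R : RSys ι I} {G : Type*} [Group G] [Fintype ι] [DecidableEq ι]
    (P : PreRGD R G) : FoldMap (fold0 P) R where
  φ := id
  ψ := id
  rep := id
  ψ_rep _ := rfl
  mem_orb i := by rw [orb0]; rfl
  rc_φ r a := by simp [Finset.sum_filter]
  φ_ρ _ := rfl
  φ_s a r := by rw [s0]; rfl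

theorem fs_bcd {m κ : ℕ} (hκ : κ ≤ 2) (hm : 2 ≤ m) (h1 : κ ≤ 1) (h3 : 3 ≤ m) (h4 : κ = 0 → 4 ≤ m) :
    FS (RS hκ hm) := by
  have a : Ok κ (⟨⟨0, by omega⟩, true⟩ : PM m) ⟨⟨1, by omega⟩, true⟩ := ⟨by simp, .inl (by simp)⟩
  have b : Ok κ (⟨⟨0, by omega⟩, true⟩ : PM m) ⟨⟨2, by omega⟩, true⟩ := ⟨by simp, .inl (by simp)⟩
  refine ⟨rt a, rt b, fun e => by simpa using vec_inj a b (congrArg Subtype.val e), fun i => ?_⟩
  have c := two_rc_rt hκ a i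
  have d := two_rc_rt hκ b i
  change 0 < BCD.rc _ i ∧ 0 < BCD.rc _ i
  have := i.2
  interval_cases κ <;> simp [wv, sg, cs] at c d h4 <;> split_ifs at c d <;> omega

variable {F : Type*} [Field F] {V : Type*} [AddCommGroup V] [Module F V] {f : Form (Param.orth F) V}
  {m κ : ℕ} {fr : Frame f (PM m)}

theorem Ty.B_Fl (T : Ty κ fr) (hm : 2 ≤ m) {g : f.Isom} (hg : g ∈ (T.PG hm).B) (k : PM m) :
    g.1 (fr.e k) ∈ Fl fr η (η k) := by
  obtain ⟨u, hu, h, hh, rfl⟩ := (T.PG hm).mem_B_iff.mp hg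
  obtain ⟨c, hc⟩ := hh k
  have h1 : c • fr.e k ∈ Fl fr η (η k) := Submodule.smul_mem _ _ (e_mem_Fl le_rfl)
  have h2 := str_US η_neg (fun i j h e => (isPos_rt T.le hm h).mp e) hu _ _ h1
  rw [Isom.mul_apply, hc]
  simpa using add_mem (Fl_succ h2) h1

theorem exists_ty (fr : Frame f (PM m)) (hf : f.Nondeg) :
    ∃ κ ≤ 1, Ty κ fr ∧ (κ = 0 ↔ ∀ v ∈ fr.V0, v = 0) := by
  classical
  have h1 : ∀ v ∈ fr.V0, (∀ w ∈ fr.V0, f.B v w = 0) → v = 0 := fun v hv h =>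
    congrArg Subtype.val (fr.V0_nondeg hf ⟨v, hv⟩ fun w => h w w.2)
  have h2 : ∀ v l l', f.IsLam v l → f.IsLam v l' → l = l' := fun v l l' a b =>
    (f.orth_isLam_iff.1 a).trans (f.orth_isLam_iff.1 b).symm
  by_cases h : ∀ v ∈ fr.V0, v = 0
  · exact ⟨0, zero_le_one, ⟨zero_le_two, fun e => absurd rfl e, fun _ => h2, fun _ => h, h1⟩, by simpa using h⟩
  · refine ⟨1, le_rfl, ⟨one_le_two, fun _ => ?_, fun _ => h2, fun e => absurd rfl e, h1⟩, by simpa using h⟩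
    push Not at h
    obtain ⟨v, hv, h0⟩ := h
    exact ⟨v, hv, _, f.orth_isLam v, fun e => h0 (fr.aniso v (fr.mem_V0.1 hv) e)⟩

variable [Fintype F] [Finite V]

theorem eg_flag (fr : Frame f (PM m)) (hf : f.Nondeg) (h7 : 7 ≤ finrank F V) {Ω : Type*} [MulAction fr.EG Ω]
    [Finite Ω] [Nontrivial Ω] (h : Two fr.EG Ω) : 3 ≤ m ∧
      (∀ a b : Ω, ∃ g : fr.EG, (∀ k, g.1.1 (fr.e k) ∈ Fl fr η (η k)) ∧ g • a = b) ∧
      (Nat.card F = 2 → (∀ v ∈ fr.V0, v = 0) → ∃ k, Nat.card Ω = 2 ^ k) := by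
  obtain ⟨κ, h1, T, h0⟩ := exists_ty fr hf
  have := Module.Finite.of_finite (R := F) (M := V)
  have d1 := fr.finrank_V0 hf
  have d2 := fr.finrank_V0_lt (fr.V0_nondeg hf).orth_exists_singular
  rw [PM.card] at d1
  have h3 : 3 ≤ m := by omega
  have hm : 2 ≤ m := by omega
  have h4 : κ = 0 → 4 ≤ m := fun e => by
    have : finrank F fr.V0 = 0 := Submodule.finrank_eq_zero.2 (eq_bot_iff.2 (h0.1 e))
    omega
  let P := (fm0 (T.PG hm)).pre (T.emb hm)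
  have hX : ∀ i j (h : Ok κ i j) g, g ∈ P.X (rt h) ↔ fr.EG.subtype g ∈ fr.RX i j := fun i j h g => by
    rw [FoldMap.mem_X, ← T.PG_X hm h, ← USub_singleton (X := (T.PG hm).X) (rt h)]
    rfl
  obtain ⟨p, hc, n, hp, hq⟩ := FiniteField.card' F
  have := Fact.mk hp
  rw [← Nat.card_eq_fintype_card] at hq
  have hP := (fm0 (T.PG hm)).pre_nondeg (T.emb hm)
  have hU : IsPGroup p P.U := T2X.pg_US hP (fun r => by
    obtain ⟨i, j, h, rfl⟩ := exists_rt r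
    exact IsPGroup.iff_card.1 (((fr.pEl_U hq i).isPGroup.comap_of_injective fr.EG.subtype
      Subtype.val_injective).to_le fun g hg => fr.RX_le_U i j ((hX i j h g).1 hg))) fun _ h => h
  have hB := trans_B hP ((fm0 (T.PG hm)).pre_full (T.emb hm)) hU (hom_bcd fr h1 T.le hm (fun e => by
    by_contra c
    push Not at c
    exact one_ne_zero (e.symm.trans (h0.2 fun v hv => T.nd v hv (c v hv)))) P _ Subtype.val_injective hX
    fun i j _ x hx => ⟨⟨x, fr.U_le_EG i (fr.RX_le_U i j hx)⟩, rfl⟩) (fs_bcd T.le hm h1 h3 h4) h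
  refine ⟨h3, fun a b => ?_, fun e e' => ?_⟩
  · obtain ⟨g, hg, e⟩ := hB a b
    exact ⟨g, T.B_Fl hm ((fm0 (T.PG hm)).map_mem_B (T.emb hm) hg), e⟩
  · obtain rfl : p = 2 := (Nat.prime_dvd_prime_iff_eq hp Nat.prime_two).1 (e ▸ hq ▸ dvd_pow_self p n.ne_zero)
    have hT : T2X.Trs Ω P.U := fun a b => by
      obtain ⟨g, hg, e1⟩ := hB a b
      obtain ⟨u, hu, k, hk, rfl⟩ := P.mem_B_iff.mp hg
      obtain rfl : k = 1 := Subtype.ext (fr.ext (fun i => by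
        obtain ⟨c, hc⟩ := hk i
        have c0 : c ≠ 0 := by
          rintro rfl
          exact fr.e_ne_zero i (k.1.1.injective (by rw [map_zero]; exact hc.trans (zero_smul _ _)))
        have c1 := FiniteField.pow_card_sub_one_eq_one c c0
        rw [← Nat.card_eq_fintype_card, e, pow_one] at c1
        exact hc.trans (by rw [c1, one_smul]; rfl)) fun v hv => by rw [e' v hv, map_zero, map_zero])
      exact ⟨u, hu, by rwa [mul_one] at e1⟩
    obtain ⟨a⟩ := (inferInstance : Nonempty Ω)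
    exact hT.ob_eq a ▸ T2X.ob_pow hU a

variable {X : Type*} [MulAction f.Isom X] {Y : Finset X}

theorem om_flag (fr : Frame f (PM m)) (S : Sys f (commutator f.Isom) Y) (h2 : TwoY (commutator f.Isom) Y)
    (h1 : 1 < Y.card) (h7 : 7 ≤ finrank F V) : ∃ u z, f.Q u = 0 ∧ u ≠ 0 ∧ z ∈ Cs f u ∧
      (∀ a ∈ Y, ∀ b ∈ Y, ∃ g ∈ commutator f.Isom, g.1 u ∈ F ∙ u ∧ g.1 z ∈ Submodule.span F {u, z} ∧ g • a = b) ∧
      (Nat.card F = 2 → (∀ v ∈ fr.V0, v = 0) → ∃ k, Y.card = 2 ^ k) := by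
  have := Module.Finite.of_finite (R := F) (M := V)
  have h3 : 3 ≤ m := by
    have d1 := fr.finrank_V0 S.nd
    have d2 := fr.finrank_V0_lt (fr.V0_nondeg S.nd).orth_exists_singular
    rw [PM.card] at d1
    omega
  let i : PM m := ⟨⟨0, by omega⟩, true⟩
  let j : PM m := ⟨⟨1, by omega⟩, true⟩
  have a1 : j ≠ i := by simp [i, j]
  have a2 : j ≠ -i := by simp [i, j]
  rw [← fr.orth_EG S.nd (by omega) a1 a2] at S h2 ⊢
  let _ := actY S
  have : Nontrivial Y := Fintype.one_lt_card_iff_nontrivial.1 (by simpa using h1)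
  obtain ⟨-, b1, b2⟩ := eg_flag fr S.nd h7 (two_actY S h2)
  refine ⟨fr.e i, fr.e j, fr.Qe i, fr.e_ne_zero i, ⟨fr.B_eq' a2, fr.Qe j, fun h => ?_⟩, fun a ha b hb => ?_,
    fun e e' => by simpa using b2 e e'⟩
  · obtain ⟨c, hc⟩ := Submodule.mem_span_singleton.1 h
    exact fr.B_ne j (by rw [← hc, B_smul_left, fr.B_neg a1.symm, mul_zero])
  obtain ⟨g, hg, e⟩ := b1 ⟨a, ha⟩ ⟨b, hb⟩
  refine ⟨g, g.2, Submodule.span_le.2 ?_ (hg i), Submodule.span_le.2 ?_ (hg j), congrArg Subtype.val e⟩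
  · rintro _ (⟨⟨k, s⟩, hk, rfl⟩ | ⟨hk, -⟩)
    · obtain e : (⟨k, s⟩ : PM m) = i := by
        have := k.2
        cases s <;> simp [i, η, sg, Fin.ext_iff] at hk ⊢ <;> omega
      exact e ▸ Submodule.mem_span_singleton_self _
    · simp [i, η, sg] at hk; omega
  · rintro _ (⟨⟨k, s⟩, hk, rfl⟩ | ⟨hk, -⟩)
    · obtain e | e : (⟨k, s⟩ : PM m) = i ∨ (⟨k, s⟩ : PM m) = j := by
        have := k.2
        cases s <;> simp [i, j, η, sg, Fin.ext_iff] at hk ⊢ <;> omega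
      all_goals exact Submodule.subset_span (by simp [e])
    · simp [j, η, sg] at hk; omega

theorem om_PTr (S : Sys f (commutator f.Isom) Y) (h2 : TwoY (commutator f.Isom) Y) (h1 : 1 < Y.card)
    (h7 : 7 ≤ finrank F V) : ∃ u, f.Q u = 0 ∧ u ≠ 0 ∧ PTr (commutator f.Isom) u Y := by
  have := Module.Finite.of_finite (R := F) (M := V)
  obtain ⟨m, ⟨fr⟩⟩ := exists_frame S.nd
  obtain ⟨u, z, a1, a2, -, a3, -⟩ := om_flag fr S h2 h1 h7
  refine ⟨u, a1, a2, fun a ha b hb => ?_⟩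
  obtain ⟨g, hg, b1, -, b2⟩ := a3 a ha b hb
  obtain ⟨s, hs⟩ := Submodule.mem_span_singleton.1 b1
  refine ⟨g, hg, s, ?_, hs.symm, b2⟩
  rintro rfl
  exact a2 (g.1.injective (by rw [← hs, zero_smul, map_zero]))

end Cfsg.Agent.T2I
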